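import Mathlib.RingTheory.Flat.Basic
import Mathlib.LinearAlgebra.TensorProduct.RightExactness

/-! # Pure exactness for a flat quotient, with free universes -/

namespace Groth.Agent.W4Lib

open TensorProduct

variable {R : Type*} [CommRing R]
  {M₁ M₂ M₃ : Type*} [AddCommGroup M₁] [Module R M₁] [AddCommGroup M₂] [Module R M₂]
  [AddCommGroup M₃] [Module R M₃] {f : M₁ →ₗ[R] M₂} {g : M₂ →ₗ[R] M₃}

/-- A flat quotient gives a kernel that stays injective after tensoring. -/
theorem lTensor_injective_of_flat_quotient [Module.Flat R M₃] (hf : Function.Injective f)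
    (hex : Function.Exact f g) (hg : Function.Surjective g) (Q : Type*) [AddCommGroup Q] [Module R Q] :
    Function.Injective (f.lTensor Q) := by
  rw [LinearMap.lTensor_inj_iff_rTensor_inj, injective_iff_map_eq_zero]
  intro t ht
  let π : (Q →₀ R) →ₗ[R] Q := Finsupp.linearCombination R id
  have hπ : Function.Surjective π := fun q => ⟨Finsupp.single q 1, by simp [π]⟩
  have hexπ : Function.Exact (LinearMap.ker π).subtype π := LinearMap.exact_subtype_ker_map π
  obtain ⟨w, rfl⟩ := LinearMap.lTensor_surjective M₁ hπ t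
  have h1 : π.lTensor M₂ (f.rTensor _ w) = 0 := by
    rw [← LinearMap.comp_apply, LinearMap.lTensor_comp_rTensor, ← LinearMap.rTensor_comp_lTensor,
      LinearMap.comp_apply, ht]
  obtain ⟨v, hv⟩ := ((lTensor_exact (R := R) (M := ↥(LinearMap.ker π)) (N := Q →₀ R) (P := Q) M₂
    (f := (LinearMap.ker π).subtype) (g := π) hexπ hπ) _).mp h1
  have h2 : g.rTensor (LinearMap.ker π) v = 0 := by
    refine Module.Flat.lTensor_preserves_injective_linearMap (M := M₃) _
      (LinearMap.ker π).injective_subtype ?_
    rw [← LinearMap.comp_apply, LinearMap.lTensor_comp_rTensor, ← LinearMap.rTensor_comp_lTensor,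
      LinearMap.comp_apply, hv, map_zero, ← LinearMap.comp_apply, ← LinearMap.rTensor_comp,
      show g ∘ₗ f = 0 from hex.linearMap_comp_eq_zero, LinearMap.rTensor_zero, LinearMap.zero_apply]
  obtain ⟨v', rfl⟩ := ((rTensor_exact (R := R) (M := M₁) (N := M₂) (P := M₃) (LinearMap.ker π)
    (f := f) (g := g) hex hg) _).mp h2
  have h3 : (LinearMap.ker π).subtype.lTensor M₁ v' = w := by
    refine Module.Flat.rTensor_preserves_injective_linearMap (M := Q →₀ R) f hf ?_
    rw [← hv, ← LinearMap.comp_apply, LinearMap.rTensor_comp_lTensor, ← LinearMap.lTensor_comp_rTensor,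
      LinearMap.comp_apply]
  rw [← h3, ← LinearMap.comp_apply, ← LinearMap.lTensor_comp,
    show π ∘ₗ (LinearMap.ker π).subtype = 0 from hexπ.linearMap_comp_eq_zero,
    LinearMap.lTensor_zero, LinearMap.zero_apply]

end Groth.Agent.W4Lib
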